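import Cfsg.Agent.H394.PBTools_m3
import Cfsg.Agent.H848.RatB.Co3
import Cfsg.Agent.H701.EB.CoThree
import Cfsg.Agent.H345.RecCo3
import Cfsg.Agent.H769.PB.CoThreeThree
import Cfsg.Agent.H417.Two.Co3
import Cfsg.Agent.H990.PQ.Core
import Cfsg.Agent.FastGrp
import Cfsg.Agent.Prune
set_option linter.all false
prune_inst 0x7f00000000000000000000000000000000000000000000000000000000000000000000000000000000000000000000000000000000000000000000000000000000000000000000000000000000000000003fffffffffffffffffffffffffffbeffbdffffffff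
open scoped Cfsg.Agent.FastGrp

/-!
# S4612, the row `Co₃`: blocks (helper635)

`NB 2 4`, `NB 3 1`, `NB 5 2`, `NB 23 1`; the pair (2, 3) by the centralizer `3 × L₂(8):3`.
-/

set_option autoImplicit false
set_option linter.unusedVariables false

open Cfsg Subgroup

namespace Cfsg.Agent.H635.PQ.Co3

open Cfsg.Agent.H317.PQ Cfsg.Agent.H709.PB Cfsg.Agent.H358.A3 Cfsg.Agent.H848.RatB.Co3
open Cfsg.Agent.H345.RecCo (card_co3 finite_co3)
open Cfsg.Agent.SporRec.Co3.Chain Cfsg.Agent.SporRec.Co3.Ident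
open Cfsg.Agent.SporRec.Co3.Model (equivCo3)
open Cfsg.Agent.SigZero

theorem nb_two : NB 2 4 Spor.Co3 :=
  NB.of_orders (q := 2) (a := 10) (by rw [card_co3]; norm_num) fun y hy h2 => H701.EB.CoThree.not_dvd_prime hy h2

theorem nb_five : NB 5 2 Spor.Co3 := by
  have : Fact (Nat.Prime 5) := ⟨Nat.prime_five⟩
  refine NB.of_orders (q := 5) (a := 3) (by rw [card_co3]; norm_num) fun y hy h5 hd => ?_
  obtain ⟨x, rfl⟩ := equivCo3.surjective y
  rw [card_centralizer_equiv] at hd
  rw [MulEquiv.orderOf_eq] at hy h5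
  by_cases h7 : 7 ≤ orderOf x
  · exact not_dvd_big hy h7 rfl (dvd_trans (by norm_num) hd)
  · have h25 : 25 ∣ Nat.card ↥(centralizer ({x} : Set G3)) := dvd_trans (by norm_num) hd
    have h2 := hy.two_le
    have h4 : orderOf x ≠ 4 := by intro h; rw [h] at hy; norm_num at hy
    have h6 : orderOf x ≠ 6 := by intro h; rw [h] at hy; norm_num at hy
    have h8 : orderOf x = 2 ∨ orderOf x = 3 := by omega
    rcases h8 with h | h
    · exact not_dvd_two h h25
    · exact not_dvd_three h h25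

/-- the 3-part of the centralizers of the involutions -/
theorem not_dvd_inv {t : G3} (ht : orderOf t = 2) : ¬ 3 ^ 7 ∣ Nat.card ↥(centralizer ({t} : Set G3)) := by
  have := finite_G3
  have ht2 : t * t = 1 := by rw [← pow_two, ← ht, pow_orderOf_eq_one]
  have ht1 : t ≠ 1 := by
    rintro rfl
    rw [orderOf_one] at ht
    norm_num at ht
  obtain ⟨e⟩ := SigZero.CoThree.exists_equiv
  have hf : Finite CoThreeB.K := Finite.of_equiv _ e.symm.toEquiv
  have hw2 : e CoThreeB.wK * e CoThreeB.wK = 1 := by rw [← map_mul, CoThreeB.wK_sq, map_one]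
  have hw1 : e CoThreeB.wK ≠ 1 := by
    intro h
    exact CoThreeB.wK_ne ((map_eq_one_iff e e.injective).1 h)
  have hc : Nat.card (centralizer ({e CoThreeB.wK} : Set G3)) ∣ 2 * 95040 := by
    rw [card_centralizer_equiv]
    exact card_C_dvd
  have hconj : ∀ g z : G3, Nat.card (centralizer ({g * z * g⁻¹} : Set G3)) = Nat.card (centralizer ({z} : Set G3)) := by
    intro g z
    exact card_centralizer_equiv (MulAut.conj g) z
  rcases SigZero.CoThree.classes hw2 hw1 (Nat.le_of_dvd (by norm_num) hc) ht2 ht1 with ⟨g, hg⟩ | ⟨g, hg⟩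
  · rw [← hg, hconj, KFacts.Co3.Syl.card_Z]
    norm_num
  · intro h
    rw [← hg, hconj] at h
    have h1 := h.trans hc
    norm_num at h1

/-! ### the centralizer of order dividing `4536` -/

section three

open Cfsg.Agent.H843.IMC.Co3B Cfsg.Agent.LThreeCo1T8.Fixed

theorem finGw : Finite Gw := Nat.finite_of_card_ne_zero (by rw [card_Gw]; norm_num)

theorem card_KK_le : Nat.card ↥KK ≤ 4536 := by
  have := finGw
  have hfC : Finite ↥LThreeCo1T8.Mono.C := by
    have : Finite Co0 := Cfsg.Agent.CoOneType.FrameFix.finite_co0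
    infer_instance
  refine (Nat.card_le_card_of_injective toStab toStab_injective).trans ?_
  have h1 := Subgroup.card_mul_index (MulAction.stabilizer ↥LThreeCo1T8.Mono.C (vv 0))
  rw [MulAction.index_stabilizer, orbit_eq, ncard_VV] at h1
  have h2 : Nat.card ↥LThreeCo1T8.Mono.C ≤ 1088640 := card_C
  omega

theorem five_KK : ¬ 5 ∣ Nat.card ↥KK := by
  have := finGw
  intro h5
  have ht := two_trans
  have hpt : MulAction.IsPretransitive ↥KK P := MulAction.isPretransitive_of_is_two_pretransitive (h2 := ht)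
  have h1 := Subgroup.card_mul_index (MulAction.stabilizer ↥KK (pt 0))
  rw [MulAction.index_stabilizer_of_transitive, card_P] at h1
  -- the stabilizer of two points
  let T := MulAction.stabilizer ↥KK (pt 0)
  have h2 := Subgroup.card_mul_index (MulAction.stabilizer ↥T (pt 1))
  rw [MulAction.index_stabilizer] at h2
  have horb : (MulAction.orbit ↥T (pt 1)) = {q : P | q ≠ pt 0} := by
    ext q
    constructor
    · rintro ⟨g, rfl⟩ h
      have h3 : (g : ↥KK) • pt 1 = pt 0 := h
      have h4 : (g : ↥KK) • pt 0 = pt 0 := g.2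
      have h5 : pt 1 = pt 0 := MulAction.injective (g : ↥KK) (h3.trans h4.symm)
      exact absurd (pt_bijective.1 h5) (by decide)
    · intro hq
      obtain ⟨g, hg0, hg1⟩ := (MulAction.is_two_pretransitive_iff.1 ht) (show pt 0 ≠ pt 1 from
        fun h => absurd (pt_bijective.1 h) (by decide)) (show pt 0 ≠ q from fun h => hq h.symm)
      exact ⟨⟨g, hg0⟩, hg1⟩
  have hn : ({q : P | q ≠ pt 0} : Set P).ncard = 27 := by
    have h3 : ({q : P | q ≠ pt 0} : Set P) = {pt 0}ᶜ := by
      ext q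
      simp
    rw [h3, Set.ncard_compl, Set.ncard_singleton, card_P]
  rw [horb, hn] at h2
  -- `x` fixes the points
  have h3 : 3 ∣ Nat.card ↥(MulAction.stabilizer ↥T (pt 1)) := by
    have hxK : x ∈ KK := by
      rw [KK_eq, Subgroup.mem_centralizer_singleton_iff]
    let t : ↥(MulAction.stabilizer ↥T (pt 1)) := ⟨⟨⟨x, hxK⟩, x_smul_P (pt 0)⟩, x_smul_P (pt 1)⟩
    have h4 : orderOf t = 3 := by
      rw [← orderOf_x]
      rw [← Subgroup.orderOf_coe t, ← Subgroup.orderOf_coe (t : ↥T), ← Subgroup.orderOf_coe ((t : ↥T) : ↥KK)]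
    rw [← h4]
    exact _root_.orderOf_dvd_natCard t
  have h6 : 5 ∣ Nat.card ↥(MulAction.stabilizer ↥T (pt 1)) := by
    have h7 : Nat.card ↥T = Nat.card ↥(MulAction.stabilizer ↥KK (pt 0)) := rfl
    rw [← h1, ← h7, ← h2] at h5
    have h8 : Nat.Prime 5 := by norm_num
    rcases h8.dvd_mul.1 h5 with h9 | h9
    · rcases h8.dvd_mul.1 h9 with h10 | h10
      · exact h10
      · norm_num at h10
    · norm_num at h9
  have h15 : 15 ∣ Nat.card ↥(MulAction.stabilizer ↥T (pt 1)) :=
    Nat.Coprime.mul_dvd_of_dvd_of_dvd (by norm_num : Nat.Coprime 3 5) h3 h6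
  have hle := card_KK_le
  have h9 := Nat.le_of_dvd Nat.card_pos h15
  have h7 : Nat.card ↥T = Nat.card ↥(MulAction.stabilizer ↥KK (pt 0)) := rfl
  rw [← h7, ← h2] at h1
  (clear * - h1 hle h9; omega)

theorem not_dvd_five {y : Gw} (hy : orderOf y = 5) : ¬ 3 ^ 7 ∣ Nat.card ↥(centralizer ({y} : Set Gw)) := by
  have := finGw
  have hF : Fact (Nat.Prime 3) := ⟨Nat.prime_three⟩
  intro h
  -- a Sylow 3-subgroup of `C(y)` is one of `G`
  obtain ⟨Q, hQ⟩ := Sylow.exists_subgroup_card_pow_prime 3 h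
  let Q' : Subgroup Gw := Q.map (centralizer ({y} : Set Gw)).subtype
  have hQ' : Nat.card ↥Q' = 3 ^ 7 := by
    rw [← hQ]
    exact Nat.card_congr (Q.equivMapOfInjective _ (Subgroup.subtype_injective _)).toEquiv.symm
  let S : Sylow 3 Gw := Sylow.ofCard Q' (by
    rw [hQ', card_Gw, show (495766656000 : ℕ) = 3 ^ 7 * 226688000 by norm_num,
      Nat.factorization_mul (by norm_num) (by norm_num), Finsupp.add_apply,
      Nat.prime_three.factorization_pow, Finsupp.single_eq_same,
      Nat.factorization_eq_zero_of_not_dvd (by norm_num)])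
  have hxp : IsPGroup 3 (zpowers x) := IsPGroup.of_card (n := 1) (by rw [Nat.card_zpowers, orderOf_x, pow_one])
  obtain ⟨R, hR⟩ := hxp.exists_le_sylow
  obtain ⟨g, hg⟩ := MulAction.exists_smul_eq Gw R S
  have h1 : g * x * g⁻¹ ∈ Q' := by
    have h2 : g * x * g⁻¹ ∈ ((g • R : Sylow 3 Gw) : Subgroup Gw) := by
      rw [Sylow.coe_subgroup_smul]
      exact Subgroup.smul_mem_pointwise_smul x (MulAut.conj g) _ (hR (mem_zpowers x))
    rw [hg] at h2
    exact h2
  obtain ⟨c, -, hc⟩ := h1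
  have h2 : g * x * g⁻¹ * y = y * (g * x * g⁻¹) := by
    rw [← hc]
    exact mem_centralizer_singleton_iff.1 c.2
  have h3 : g⁻¹ * y * g ∈ KK := by
    rw [KK_eq, mem_centralizer_singleton_iff]
    calc g⁻¹ * y * g * x = g⁻¹ * (y * (g * x * g⁻¹)) * g := by group
      _ = g⁻¹ * (g * x * g⁻¹ * y) * g := by rw [h2]
      _ = x * (g⁻¹ * y * g) := by group
  apply five_KK
  have h4 : orderOf (g⁻¹ * y * g) = 5 := by
    rw [← hy]
    have h5 : SemiconjBy g (g⁻¹ * y * g) y := by
      show g * (g⁻¹ * y * g) = y * g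
      group
    exact h5.orderOf_eq
  rw [← h4]
  have h5 := _root_.orderOf_dvd_natCard (⟨_, h3⟩ : ↥KK)
  rwa [Subgroup.orderOf_mk] at h5

end three

theorem primes {q : ℕ} (hq : q.Prime) (hd : q ∣ Nat.card Spor.Co3) :
    q = 2 ∨ q = 3 ∨ q = 5 ∨ q = 7 ∨ q = 11 ∨ q = 23 := by
  have hm := H345.RecCo.mem_co3 hq hd
  simpa only [H345.RecCo.ps, List.mem_cons, List.not_mem_nil, or_false] using hm

theorem nb_three : NB 3 1 Spor.Co3 := by
  have : Fact (Nat.Prime 3) := ⟨Nat.prime_three⟩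
  refine NB.of_orders (q := 3) (a := 7) (by rw [card_co3]; norm_num) fun y hy h3 hd => ?_
  rw [show 7 + 1 - 1 = 7 by norm_num] at hd
  rcases primes hy (_root_.orderOf_dvd_natCard y) with h | h | h | h | h | h
  · obtain ⟨x, rfl⟩ := equivCo3.surjective y
    rw [card_centralizer_equiv] at hd
    rw [MulEquiv.orderOf_eq] at h
    exact not_dvd_inv h hd
  · exact h3 h
  · obtain ⟨f⟩ := H843.IMC.Co3B.nonempty_equiv
    rw [← card_centralizer_equiv f] at hd
    exact not_dvd_five (y := f y) (by rw [MulEquiv.orderOf_eq]; exact h) hd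
  · rw [H345.RecCo.co3_cent_seven h] at hd
    norm_num at hd
  · rw [H345.RecCo.co3_cent_11 h] at hd
    norm_num at hd
  · rw [H345.RecCo.co3_cent_23 h] at hd
    norm_num at hd

/-! ### the pair (2, 3) -/

theorem not_PQ_three_two : ¬ PQ 3 2 Spor.Co3 := by
  have hp : Fact (Nat.Prime 3) := ⟨Nat.prime_three⟩
  have hp2 : Fact (Nat.Prime 2) := ⟨Nat.prime_two⟩
  obtain ⟨f⟩ := H843.IMC.Co3B.nonempty_equiv
  have hfin := finGw
  intro h
  have h' : PQ 3 2 H843.IMC.Co3B.Gw := PQ.of_equiv f h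
  obtain ⟨θ, hθ, hval⟩ := H843.IMC.Co3B.exists_theta
  have hcard : Nat.card ↥(Subgroup.zpowers H843.IMC.Co3B.x) = 3 := by rw [Nat.card_zpowers, H843.IMC.Co3B.orderOf_x]
  have hle : Subgroup.zpowers H843.IMC.Co3B.x ≤ H843.IMC.Co3B.KK := by
    rw [H843.IMC.Co3B.KK_eq, Subgroup.zpowers_le, Subgroup.mem_centralizer_singleton_iff]
  have hx := H843.IMC.Co3B.orderOf_x
  have hZ : IsPGroup 3 ↥(zpowers H843.IMC.Co3B.x) := IsPGroup.of_card (n := 1) (by rw [hcard, pow_one])
  have h1 : PQ 3 2 ↥(H843.IMC.Co3B.KK) :=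
    H358.A3.PQ.centralizer_subgroup Nat.prime_three Nat.prime_two (by norm_num) h' _ hZ
  have hc' : Nat.card ↥((zpowers H843.IMC.Co3B.x).subgroupOf H843.IMC.Co3B.KK) = 3 := by
    rw [← hcard]
    exact Nat.card_congr (Subgroup.subgroupOfEquivOfLe hle).toEquiv
  refine not_PQ Nat.prime_three Nat.prime_two (by norm_num) ((zpowers H843.IMC.Co3B.x).subgroupOf H843.IMC.Co3B.KK) ?_
    (IsPGroup.of_card (n := 1) (by rw [hc', pow_one])) (θ := θ) ?_ ?_ (by rw [hθ]; norm_num) h1
  · exact Cfsg.Agent.H686.PairCrit.subgroupOf_le_center _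
  · intro M hM
    refine (S4483.result M hM).1 θ (fun g => ?_) ?_
    · rw [hval, Complex.sub_im, Complex.natCast_im, Complex.one_im, sub_zero]
    · rw [hθ]; decide
  · rw [hc', Nat.prime_three.factorization_self]
    have h1 : (Nat.card ↥H843.IMC.Co3B.KK).factorization 3 ≤ 4 := by
      by_contra hcon
      exact H843.IMC.Co3B.not_dvd_KK ((Nat.prime_three.pow_dvd_iff_le_factorization Nat.card_pos.ne').2 (by omega))
    have h2 : (charDegree (θ : ↥H843.IMC.Co3B.KK → ℂ)).factorization 3 = 3 := by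
      rw [hθ, show (27 : ℕ) = 3 ^ 3 by norm_num, Nat.prime_three.factorization_pow]
      simp
    rw [h2]
    exact h1

end Cfsg.Agent.H635.PQ.Co3
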